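import Groth.Agent.ConeDim.Alg
import Mathlib

/-!
# Components of intersections in affine space
-/

set_option autoImplicit false

universe u

open TopologicalSpace

namespace Groth.Agent.ConeDim

theorem exists_genericPoint_component {T : Type*} [TopologicalSpace T] [QuasiSober T] [T0Space T]
    {S : Set T} (hS : IsClosed S) {C : Set S} (hC : C ∈ irreducibleComponents S) :
    ∃ x ∈ S, (∀ y ∈ S, y ⤳ x → y = x) ∧ IsGenericPoint x (Subtype.val '' C : Set T) := by
  have hC' : IsIrreducible (Subtype.val '' C : Set T) :=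
    hC.1.image _ continuous_subtype_val.continuousOn
  obtain ⟨x, hx⟩ : ∃ x, IsGenericPoint x (Subtype.val '' C : Set T) :=
    QuasiSober.sober hC' (hS.isClosedEmbedding_subtypeVal.isClosedMap _
      (isClosed_of_mem_irreducibleComponents _ hC))
  obtain ⟨x', hx', hxx⟩ := hx.mem
  refine ⟨x, hxx ▸ x'.2, fun y hy hyx => ?_, hx⟩
  have hsub : C ⊆ closure ({⟨y, hy⟩} : Set S) := fun c hc => by
    rw [← specializes_iff_mem_closure, subtype_specializes_iff]
    exact hyx.trans (hx.specializes ⟨c, hc, rfl⟩)
  have hy' : (⟨y, hy⟩ : S) ∈ C :=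
    hC.2 isIrreducible_singleton.closure hsub (subset_closure (Set.mem_singleton _))
  exact (hyx.antisymm (hx.specializes ⟨_, hy', rfl⟩)).eq

theorem topologicalKrullDim_component {T : Type*} [TopologicalSpace T] {S : Set T} {C : Set S}
    {x : T} (hx : IsGenericPoint x (Subtype.val '' C : Set T)) :
    topologicalKrullDim ↥C = topologicalKrullDim ↥(closure ({x} : Set T)) := by
  rw [show closure ({x} : Set T) = Subtype.val '' C from hx]
  exact IsHomeomorph.topologicalKrullDim_eq _
    (Topology.IsEmbedding.subtypeVal.homeomorphImage C).isHomeomorph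

theorem topologicalKrullDim_closure_primeSpectrum {R : Type u} [CommRing R] (p : PrimeSpectrum R) :
    topologicalKrullDim ↥(closure ({p} : Set (PrimeSpectrum R))) = ringKrullDim (R ⧸ p.asIdeal) := by
  rw [← PrimeSpectrum.topologicalKrullDim_eq_ringKrullDim]
  have h := PrimeSpectrum.isClosedEmbedding_comap_of_surjective _ _
    (Ideal.Quotient.mk_surjective (I := p.asIdeal))
  have hr : Set.range (PrimeSpectrum.comap (Ideal.Quotient.mk p.asIdeal)) = closure {p} := by
    rw [range_comap_of_surjective _ _ Ideal.Quotient.mk_surjective, Ideal.mk_ker,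
      PrimeSpectrum.closure_singleton]
  rw [← hr]
  exact (IsHomeomorph.topologicalKrullDim_eq _ h.isEmbedding.toHomeomorph.isHomeomorph).symm

theorem affine_inter {k : Type u} [Field k] {n r s : ℕ} {T : Type*} [TopologicalSpace T]
    (e : T ≃ₜ PrimeSpectrum (MvPolynomial (Fin n) k))
    {X Y : Set T} (hX : IsClosed X) (hY : IsClosed Y)
    (hXr : ∀ Z ∈ irreducibleComponents X, topologicalKrullDim Z = r)
    (hYs : ∀ Z ∈ irreducibleComponents Y, topologicalKrullDim Z = s)
    {Z : Set ↥(X ∩ Y)} (hZ : Z ∈ irreducibleComponents ↥(X ∩ Y)) :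
    ((r + s : ℕ) : WithBot ℕ∞) ≤ topologicalKrullDim Z + (n : WithBot ℕ∞) := by
  have : T0Space T := e.symm.t0Space
  have : QuasiSober T := e.isClosedEmbedding.quasiSober
  have hdim : ∀ {S : Set T} {C : Set S} {x : T}, IsGenericPoint x (Subtype.val '' C : Set T) →
      topologicalKrullDim ↥C = (qdim (e x).asIdeal : WithBot ℕ∞) := by
    intro S C x hx
    rw [topologicalKrullDim_component hx, coe_qdim k, ← topologicalKrullDim_closure_primeSpectrum,
      IsHomeomorph.topologicalKrullDim_eq _ (e.image (closure {x})).isHomeomorph,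
      e.image_closure, Set.image_singleton]
  obtain ⟨z, hz, hzmin, hzg⟩ := exists_genericPoint_component (hX.inter hY) hZ
  obtain ⟨x, hxX, -, hxg⟩ := exists_genericPoint_component hX
    (irreducibleComponent_mem_irreducibleComponents (⟨z, hz.1⟩ : X))
  obtain ⟨y, hyY, -, hyg⟩ := exists_genericPoint_component hY
    (irreducibleComponent_mem_irreducibleComponents (⟨z, hz.2⟩ : Y))
  have hr : qdim (e x).asIdeal = r := by
    have := hXr _ (irreducibleComponent_mem_irreducibleComponents (⟨z, hz.1⟩ : X))
    rw [hdim hxg] at this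
    exact_mod_cast this
  have hs : qdim (e y).asIdeal = s := by
    have := hYs _ (irreducibleComponent_mem_irreducibleComponents (⟨z, hz.2⟩ : Y))
    rw [hdim hyg] at this
    exact_mod_cast this
  have hxz : x ⤳ z := hxg.specializes ⟨⟨z, hz.1⟩, mem_irreducibleComponent, rfl⟩
  have hyz : y ⤳ z := hyg.specializes ⟨⟨z, hz.2⟩, mem_irreducibleComponent, rfl⟩
  have hle : (e x).asIdeal ⊔ (e y).asIdeal ≤ (e z).asIdeal :=
    sup_le ((PrimeSpectrum.le_iff_specializes _ _).2 (hxz.map e.continuous))
      ((PrimeSpectrum.le_iff_specializes _ _).2 (hyz.map e.continuous))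
  obtain ⟨M, hM, hMz⟩ := Ideal.exists_minimalPrimes_le hle
  let m : PrimeSpectrum (MvPolynomial (Fin n) k) := ⟨M, hM.1.1⟩
  have hsp : ∀ {a b : PrimeSpectrum (MvPolynomial (Fin n) k)}, a.asIdeal ≤ b.asIdeal →
      e.symm a ⤳ e.symm b := fun {a b} h =>
    ((PrimeSpectrum.le_iff_specializes a b).1 h).map e.symm.continuous
  have hxm : x ⤳ e.symm m := by
    have := hsp (a := e x) (b := m) (le_sup_left.trans hM.1.2)
    rwa [e.symm_apply_apply] at this
  have hym : y ⤳ e.symm m := by
    have := hsp (a := e y) (b := m) (le_sup_right.trans hM.1.2)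
    rwa [e.symm_apply_apply] at this
  have hmz : e.symm m ⤳ z := by
    have := hsp (a := m) (b := e z) hMz
    rwa [e.symm_apply_apply] at this
  have he := hzmin _ ⟨hxm.mem_closed hX hxX, hym.mem_closed hY hyY⟩ hmz
  have h := qdim_add_le hM
  rw [hdim hzg, ← he, e.apply_symm_apply]
  rw [hr, hs] at h
  exact_mod_cast h

end Groth.Agent.ConeDim
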