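import Groth.Agent.DimTheory.Algebra
import Mathlib

/-!
# Dimension of intersections in affine space
-/

set_option autoImplicit false

open scoped TensorProduct

namespace Groth.Agent.ConeDim

universe u

section Free

variable (P : Type u) [CommRing P] [IsDomain P] (B : Type u) [AddCommGroup B] [Module P B]
  [Module.Finite P B] [Module.IsTorsionFree P B]

/-- a finite torsion-free module over a domain embeds in a finite free one -/
theorem exists_injective_finite_free :
    ∃ (ι : Type u) (_ : Finite ι) (φ : B →ₗ[P] (ι →₀ P)), Function.Injective φ := by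
  classical
  obtain ⟨n, v, hv⟩ := Module.Finite.exists_fin (R := P) (M := B)
  obtain ⟨I, hI, hI'⟩ := exists_maximal_linearIndepOn P v
  choose a ha hav using hI'
  let c : P := ∏ i, if h : i ∈ I then 1 else a i h
  have hc : c ≠ 0 := Finset.prod_ne_zero_iff.2 fun i _ => by
    split_ifs with h
    exacts [one_ne_zero, ha i h]
  let N := Submodule.span P (Set.range fun i : I => v i)
  have hcv : ∀ i, c • v i ∈ N := by
    intro i
    by_cases h : i ∈ I
    · exact Submodule.smul_mem _ _ (Submodule.subset_span ⟨⟨i, h⟩, rfl⟩)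
    · obtain ⟨d, hd⟩ : a i h ∣ c :=
        dvd_trans (by rw [dif_neg h]) (Finset.dvd_prod_of_mem
          (fun i => if h : i ∈ I then (1 : P) else a i h) (Finset.mem_univ i))
      rw [hd, mul_comm, mul_smul]
      refine Submodule.smul_mem _ _ ?_
      rw [show N = Submodule.span P (v '' I) by rw [Set.image_eq_range]]
      exact hav i h
  have hcx : ∀ x, c • x ∈ N := by
    intro x
    have hx : x ∈ Submodule.span P (Set.range v) := by rw [hv]; trivial
    induction hx using Submodule.span_induction with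
    | mem y hy => obtain ⟨i, rfl⟩ := hy; exact hcv i
    | zero => simp
    | add y z _ _ hy hz => rw [smul_add]; exact N.add_mem hy hz
    | smul r y _ hy => rw [smul_comm]; exact N.smul_mem r hy
  refine ⟨ULift.{u} I, inferInstance, (Finsupp.domLCongr Equiv.ulift.symm).toLinearMap ∘ₗ
    (LinearIndependent.repr hI ∘ₗ ((LinearMap.lsmul P B c).codRestrict N hcx)), ?_⟩
  rw [LinearMap.coe_comp]
  refine (Finsupp.domLCongr (Equiv.ulift (α := I)).symm).injective.comp ?_
  rw [LinearMap.coe_comp]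
  refine (LinearMap.ker_eq_bot.1 hI.repr_ker).comp ?_
  intro x y h
  exact smul_right_injective B hc (congrArg Subtype.val h)

end Free

section Tensor

variable {k : Type u} [Field k] {P Q B C : Type u} [CommRing P] [CommRing Q] [CommRing B]
  [CommRing C] [Algebra k P] [Algebra k Q] [Algebra k B] [Algebra k C]
  [Algebra P B] [Algebra Q C] [IsScalarTower k P B] [IsScalarTower k Q C]

/-- `B ⊗ C` is torsion free over `P ⊗ Q` -/
theorem map_mem_nonZeroDivisors [IsDomain P] [IsDomain Q] [IsDomain (P ⊗[k] Q)]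
    [Module.Finite P B] [Module.IsTorsionFree P B] [Module.Finite Q C] [Module.IsTorsionFree Q C]
    (r : P ⊗[k] Q) (hr : r ≠ 0) :
    Algebra.TensorProduct.map (IsScalarTower.toAlgHom k P B) (IsScalarTower.toAlgHom k Q C) r ∈
      nonZeroDivisors (B ⊗[k] C) := by
  obtain ⟨ι, _, φ, hφ⟩ := exists_injective_finite_free P B
  obtain ⟨κ, _, ψ, hψ⟩ := exists_injective_finite_free Q C
  let g := Algebra.TensorProduct.map (IsScalarTower.toAlgHom k P B) (IsScalarTower.toAlgHom k Q C)
  -- the coordinates of an element of `B ⊗ C`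
  let co (i : ι) (j : κ) : B ⊗[k] C →ₗ[k] P ⊗[k] Q :=
    TensorProduct.map (((Finsupp.lapply i) ∘ₗ φ).restrictScalars k)
      (((Finsupp.lapply j) ∘ₗ ψ).restrictScalars k)
  have hlin : ∀ i j (s : P ⊗[k] Q) (t : B ⊗[k] C), co i j (g s * t) = s * co i j t := by
    intro i j s t
    induction s with
    | zero => simp
    | add s₁ s₂ h₁ h₂ => rw [map_add, add_mul, map_add, h₁, h₂, add_mul]
    | tmul p q =>
      induction t with
      | zero => simp
      | add t₁ t₂ h₁ h₂ => rw [mul_add, map_add, h₁, h₂, map_add, mul_add]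
      | tmul b c =>
        simp [g, co, ← Algebra.smul_def]
  have hinj : ∀ t, (∀ i j, co i j t = 0) → t = 0 := by
    intro t ht
    let φ' : B →ₗ[k] (ι →₀ P) := φ.restrictScalars k
    let ψ' : C →ₗ[k] (κ →₀ Q) := ψ.restrictScalars k
    have h1 : Function.Injective (LinearMap.rTensor (κ →₀ Q) φ') :=
      Module.Flat.rTensor_preserves_injective_linearMap φ' hφ
    have h2 : Function.Injective (LinearMap.lTensor B ψ') :=
      Module.Flat.lTensor_preserves_injective_linearMap ψ' hψ
    have key : ∀ s (i : ι) (j : κ), (finsuppTensorFinsupp k k P Q ι κ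
        (LinearMap.rTensor (κ →₀ Q) φ' (LinearMap.lTensor B ψ' s))) (i, j) = co i j s := by
      intro s i j
      induction s with
      | zero => simp only [map_zero, Finsupp.zero_apply]
      | add s₁ s₂ h₁ h₂ => simp only [map_add, Finsupp.add_apply, h₁, h₂]
      | tmul b c =>
        rw [LinearMap.lTensor_tmul, LinearMap.rTensor_tmul, finsuppTensorFinsupp_apply]
        rfl
    apply h2
    apply h1
    apply (finsuppTensorFinsupp k k P Q ι κ).injective
    simp only [map_zero]
    ext ⟨i, j⟩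
    rw [key, ht, Finsupp.zero_apply]
  refine mem_nonZeroDivisors_iff_right.2 fun t ht => hinj t fun i j => ?_
  have := hlin i j r t
  rw [mul_comm, ht, map_zero] at this
  exact (mul_eq_zero.1 this.symm).resolve_left hr

end Tensor

section QDim

variable (k : Type u) [Field k] {A : Type u} [CommRing A] [Algebra k A]

/-- the dimension of `A/p` as a natural number -/
noncomputable def qdim (p : Ideal A) : ℕ := ((ringKrullDim (A ⧸ p)).unbotD 0).toNat

theorem qdim_eq {p : Ideal A} {n : ℕ} (h : ringKrullDim (A ⧸ p) = n) : qdim p = n := by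
  rw [qdim, h]; rfl

variable [Algebra.FiniteType k A]

include k

theorem coe_qdim (p : Ideal A) [p.IsPrime] : (qdim p : WithBot ℕ∞) = ringKrullDim (A ⧸ p) := by
  obtain ⟨n, hn⟩ := DimTheory.exists_ringKrullDim_eq k (A ⧸ p)
  rw [qdim_eq hn, hn]

theorem qdim_add_height_map {p q : Ideal A} [p.IsPrime] [q.IsPrime] (h : p ≤ q) :
    (qdim q : ℕ∞) + (q.map (Ideal.Quotient.mk p)).height = qdim p := by
  have : (q.map (Ideal.Quotient.mk p)).IsPrime :=
    Ideal.map_isPrime_of_surjective Ideal.Quotient.mk_surjective (by rw [Ideal.mk_ker]; exact h)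
  have h1 := DimTheory.height_add_ringKrullDim_quotient' k (q.map (Ideal.Quotient.mk p))
  rw [ringKrullDim_eq_of_ringEquiv (DoubleQuot.quotQuotEquivQuotOfLE h), ← coe_qdim k q,
    ← coe_qdim k p] at h1
  exact WithBot.coe_inj.1 h1

theorem qdim_lt {p q : Ideal A} [p.IsPrime] [q.IsPrime] (h : p < q) : qdim q < qdim p := by
  have h1 := qdim_add_height_map k h.le
  have : (q.map (Ideal.Quotient.mk p)).IsPrime :=
    Ideal.map_isPrime_of_surjective Ideal.Quotient.mk_surjective (by rw [Ideal.mk_ker]; exact h.le)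
  have h2 : q.map (Ideal.Quotient.mk p) ≠ ⊥ := fun h0 => h.not_ge
    (by rwa [Ideal.map_eq_bot_iff_le_ker, Ideal.mk_ker] at h0)
  have h3 : (1 : ℕ∞) ≤ (q.map (Ideal.Quotient.mk p)).height :=
    Order.one_le_iff_pos.2 (pos_iff_ne_zero.2 fun h0 => h2 (Ideal.height_eq_zero_iff_eq_bot.1 h0))
  have h4 : ((qdim q + 1 : ℕ) : ℕ∞) ≤ qdim p := by
    rw [← h1]; push_cast; exact add_le_add le_rfl h3
  exact Nat.cast_le.1 h4

theorem qdim_anti {p q : Ideal A} [p.IsPrime] [q.IsPrime] (h : p ≤ q) : qdim q ≤ qdim p := by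
  rcases h.lt_or_eq with h | rfl
  exacts [(qdim_lt k h).le, le_rfl]

/-- Krull's height theorem -/
theorem qdim_le_add_card {p M : Ideal A} [p.IsPrime] {s : Set A} (hs : s.Finite)
    (hM : M ∈ (p ⊔ Ideal.span s).minimalPrimes) : qdim p ≤ qdim M + s.ncard := by
  have := Algebra.FiniteType.isNoetherianRing k A
  have := hM.1.1
  have hpM : p ≤ M := le_sup_left.trans hM.1.2
  have h1 := qdim_add_height_map k hpM
  let f := Ideal.Quotient.mk p
  have hf : Function.Surjective f := Ideal.Quotient.mk_surjective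
  have hM' : M.map f ∈ (Ideal.span (f '' s)).minimalPrimes := by
    refine ⟨⟨Ideal.map_isPrime_of_surjective hf (by rw [Ideal.mk_ker]; exact hpM),
      by rw [← Ideal.map_span]; exact Ideal.map_mono (le_sup_right.trans hM.1.2)⟩,
      fun Q hQ hQM => Ideal.map_le_iff_le_comap.2 (hM.2 ⟨hQ.1.comap f, sup_le ?_ ?_⟩ ?_)⟩
    · intro x hx
      rw [Ideal.mem_comap, show f x = 0 from Ideal.Quotient.eq_zero_iff_mem.2 hx]
      exact Q.zero_mem
    · exact Ideal.map_le_iff_le_comap.1 (by rw [Ideal.map_span]; exact hQ.2)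
    · refine (Ideal.comap_mono hQM).trans (le_of_eq ?_)
      rw [Ideal.comap_map_of_surjective _ hf, ← RingHom.ker_eq_comap_bot, Ideal.mk_ker, sup_eq_left]
      exact hpM
  have h2 := Ideal.height_le_card_of_mem_minimalPrimes_span (hs.image f) hM'
  have h3 : ((qdim p : ℕ) : ℕ∞) ≤ ((qdim M + s.ncard : ℕ) : ℕ∞) := by
    rw [← h1]; push_cast
    exact add_le_add le_rfl (h2.trans (Nat.cast_le.2 (Set.ncard_image_le hs)))
  exact Nat.cast_le.1 h3

end QDim

section Intersection

variable {k : Type u} [Field k]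

theorem isIntegral_tmul {P Q B C : Type u} [CommRing P] [CommRing Q] [CommRing B]
    [CommRing C] [Algebra k P] [Algebra k Q] [Algebra k B] [Algebra k C]
    (g : P →ₐ[k] B) (g' : Q →ₐ[k] C) (hg : g.Finite) (hg' : g'.Finite) :
    (Algebra.TensorProduct.map g g').toRingHom.IsIntegral := by
  let G := (Algebra.TensorProduct.map g g').toRingHom
  intro t
  induction t with
  | zero => exact RingHom.isIntegralElem_zero G
  | add a b ha hb => exact RingHom.IsIntegralElem.add G ha hb
  | tmul b c =>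
    rw [show b ⊗ₜ[k] c = (b ⊗ₜ 1) * (1 ⊗ₜ c) by simp]
    refine RingHom.IsIntegralElem.mul G ?_ ?_
    · obtain ⟨f, hf, hf0⟩ := hg.to_isIntegral b
      refine ⟨f.map (Algebra.TensorProduct.includeLeftRingHom), hf.map _, ?_⟩
      rw [Polynomial.eval₂_map]
      rw [show G.comp Algebra.TensorProduct.includeLeftRingHom =
        (Algebra.TensorProduct.includeLeftRingHom : B →+* B ⊗[k] C).comp g.toRingHom from
          RingHom.ext fun x => by simp [G]]
      exact (Polynomial.hom_eval₂ _ _ _ _).symm.trans ((congrArg _ hf0).trans (map_zero _))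
    · obtain ⟨f, hf, hf0⟩ := hg'.to_isIntegral c
      refine ⟨f.map (Algebra.TensorProduct.includeRight.toRingHom), hf.map _, ?_⟩
      rw [Polynomial.eval₂_map]
      rw [show G.comp Algebra.TensorProduct.includeRight.toRingHom =
        (Algebra.TensorProduct.includeRight.toRingHom : C →+* B ⊗[k] C).comp g'.toRingHom from
          RingHom.ext fun x => by simp [G]]
      exact (Polynomial.hom_eval₂ _ _ _ _).symm.trans ((congrArg _ hf0).trans (map_zero _))

/-- all components of `Spec (B ⊗ C)` have dimension `dim B + dim C` -/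
theorem ringKrullDim_tensor_quotient_minimal {B C : Type u} [CommRing B] [CommRing C]
    [IsDomain B] [IsDomain C] [Algebra k B] [Algebra k C] [Algebra.FiniteType k B]
    [Algebra.FiniteType k C] {P : Ideal (B ⊗[k] C)} (hP : P ∈ minimalPrimes (B ⊗[k] C)) :
    ringKrullDim ((B ⊗[k] C) ⧸ P) = ringKrullDim B + ringKrullDim C := by
  have := hP.1.1
  obtain ⟨a, g, hg, hgf, hB⟩ := DimTheory.exists_normalization k B
  obtain ⟨b, g', hg', hgf', hC⟩ := DimTheory.exists_normalization k C
  have hint := isIntegral_tmul g g' hgf hgf'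
  let e : MvPolynomial (Fin a) k ⊗[k] MvPolynomial (Fin b) k ≃ₐ[k] MvPolynomial (Fin (a + b)) k :=
    (MvPolynomial.tensorEquivSum k (Fin a) (Fin b) k).trans
      (MvPolynomial.renameEquiv k finSumFinEquiv)
  have : IsDomain (MvPolynomial (Fin a) k ⊗[k] MvPolynomial (Fin b) k) :=
    MulEquiv.isDomain (B := MvPolynomial (Fin (a + b)) k) e.toRingEquiv.toMulEquiv
  -- (Fin (a + b)) k)
  algebraize [g.toRingHom, g'.toRingHom]
  have : Module.Finite (MvPolynomial (Fin a) k) B := hgf
  have : Module.Finite (MvPolynomial (Fin b) k) C := hgf'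
  have : FaithfulSMul (MvPolynomial (Fin a) k) B := (faithfulSMul_iff_algebraMap_injective _ _).2 hg
  have : FaithfulSMul (MvPolynomial (Fin b) k) C := (faithfulSMul_iff_algebraMap_injective _ _).2 hg'
  let G := Algebra.TensorProduct.map g g'
  let _ : Algebra (MvPolynomial (Fin a) k ⊗[k] MvPolynomial (Fin b) k) ((B ⊗[k] C) ⧸ P) :=
    ((Ideal.Quotient.mk P).comp G.toRingHom).toAlgebra
  have : Algebra.IsIntegral (MvPolynomial (Fin a) k ⊗[k] MvPolynomial (Fin b) k) ((B ⊗[k] C) ⧸ P) :=
    algebraMap_isIntegral_iff.1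
      (hint.trans _ _ (RingHom.isIntegral_of_surjective _ Ideal.Quotient.mk_surjective))
  have : FaithfulSMul (MvPolynomial (Fin a) k ⊗[k] MvPolynomial (Fin b) k) ((B ⊗[k] C) ⧸ P) := by
    refine (faithfulSMul_iff_algebraMap_injective _ _).2 ((injective_iff_map_eq_zero _).2 fun r hr => ?_)
    by_contra h0
    exact Set.disjoint_left.1 (Ideal.disjoint_nonZeroDivisors_of_mem_minimalPrimes hP)
      (Ideal.Quotient.eq_zero_iff_mem.1 hr) (map_mem_nonZeroDivisors r h0)
  rw [DimTheory.ringKrullDim_eq_of_integral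
      (MvPolynomial (Fin a) k ⊗[k] MvPolynomial (Fin b) k) ((B ⊗[k] C) ⧸ P),
    ringKrullDim_eq_of_ringEquiv e.toRingEquiv, DimTheory.ringKrullDim_mvPolynomial_fin, hB, hC]
  push_cast
  rfl

/-- each component of the intersection of two subvarieties of `m`-space has dimension at least
`dim + dim - m` -/
theorem qdim_add_le_aux {m : ℕ} {B C : Type u} [CommRing B] [CommRing C] [IsDomain B] [IsDomain C]
    [Algebra k B] [Algebra k C] [Algebra.FiniteType k B] [Algebra.FiniteType k C]
    (πp : MvPolynomial (Fin m) k →ₐ[k] B) (πq : MvPolynomial (Fin m) k →ₐ[k] C)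
    (hπp : Function.Surjective πp) (hπq : Function.Surjective πq)
    {M : Ideal (MvPolynomial (Fin m) k)}
    (hM : M ∈ (RingHom.ker πp.toRingHom ⊔ RingHom.ker πq.toRingHom).minimalPrimes) :
    ∃ a b : ℕ, ringKrullDim B = a ∧ ringKrullDim C = b ∧ a + b ≤ qdim M + m := by
  classical
  have := hM.1.1
  let I := RingHom.ker πp.toRingHom ⊔ RingHom.ker πq.toRingHom
  obtain ⟨rp, hrp⟩ := Function.Surjective.hasRightInverse hπp
  let fp : B →ₐ[k] MvPolynomial (Fin m) k ⧸ I :=
    AlgHom.liftOfSurjective πp hπp (Ideal.Quotient.mkₐ k I) (fun x hx => by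
      exact Ideal.Quotient.eq_zero_iff_mem.2 (Ideal.mem_sup_left hx))
  let fq : C →ₐ[k] MvPolynomial (Fin m) k ⧸ I :=
    AlgHom.liftOfSurjective πq hπq (Ideal.Quotient.mkₐ k I) (fun x hx => by
      exact Ideal.Quotient.eq_zero_iff_mem.2 (Ideal.mem_sup_right hx))
  let χ : B ⊗[k] C →ₐ[k] MvPolynomial (Fin m) k ⧸ I := Algebra.TensorProduct.productMap fp fq
  have hfp : ∀ a, fp (πp a) = Ideal.Quotient.mk I a := fun a =>
    AlgHom.liftOfSurjective_apply _ _ _ _ a
  have hfq : ∀ a, fq (πq a) = Ideal.Quotient.mk I a := fun a =>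
    AlgHom.liftOfSurjective_apply _ _ _ _ a
  let d : Fin m → B ⊗[k] C := fun i =>
    πp (MvPolynomial.X i) ⊗ₜ 1 - 1 ⊗ₜ πq (MvPolynomial.X i)
  let J := Ideal.span (Set.range d)
  let ψ : (MvPolynomial (Fin m) k) →ₐ[k] (B ⊗[k] C) ⧸ J :=
    (Ideal.Quotient.mkₐ k J).comp (Algebra.TensorProduct.includeLeft.comp πp)
  have hψ : ψ = (Ideal.Quotient.mkₐ k J).comp (Algebra.TensorProduct.includeRight.comp πq) :=
    MvPolynomial.algHom_ext fun i => Ideal.Quotient.eq.2 (Ideal.subset_span ⟨i, rfl⟩)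
  have hψs : Function.Surjective ψ := by
    intro z
    obtain ⟨t, rfl⟩ := Ideal.Quotient.mk_surjective z
    induction t with
    | zero => exact ⟨0, by simp⟩
    | add a b ha hb =>
      obtain ⟨a', ha'⟩ := ha
      obtain ⟨b', hb'⟩ := hb
      exact ⟨a' + b', by rw [map_add, ha', hb', map_add]⟩
    | tmul b c =>
      obtain ⟨a₁, rfl⟩ := hπp b
      obtain ⟨a₂, rfl⟩ := hπq c
      refine ⟨a₁ * a₂, ?_⟩
      rw [map_mul]
      conv_lhs => arg 2; rw [hψ]
      refine (map_mul (Ideal.Quotient.mk J) _ _).symm.trans (congrArg (Ideal.Quotient.mk J) ?_)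
      simp
  have hχs : Function.Surjective χ := by
    intro z
    obtain ⟨a, rfl⟩ := Ideal.Quotient.mk_surjective z
    exact ⟨πp a ⊗ₜ 1, by simp [χ, hfp]⟩
  have hker : RingHom.ker χ.toRingHom = J := by
    refine le_antisymm (fun t ht => ?_) (Ideal.span_le.2 ?_)
    · obtain ⟨a, ha⟩ := hψs (Ideal.Quotient.mk J t)
      have hmem := Ideal.Quotient.eq.1 ha
      have h1 : χ (πp a ⊗ₜ 1 - t) = 0 := by
        refine (RingHom.mem_ker (f := χ.toRingHom)).1 ?_
        refine Ideal.span_le.2 ?_ hmem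
        rintro _ ⟨i, rfl⟩
        simp [d, χ, hfp, hfq, RingHom.mem_ker]
      have h2 : a ∈ I := by
        rw [map_sub, show χ t = 0 from ht, sub_zero] at h1
        rw [← Ideal.Quotient.eq_zero_iff_mem, ← h1]
        simp [χ, hfp]
      obtain ⟨x, hx, y, hy, rfl⟩ := Submodule.mem_sup.1 h2
      rw [← Ideal.Quotient.eq_zero_iff_mem, ← ha, map_add]
      have hx0 : ψ x = 0 := by
        show (Ideal.Quotient.mk J) (πp x ⊗ₜ 1) = 0
        rw [show πp x = 0 from hx]
        simp
      have hy0 : ψ y = 0 := by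
        rw [hψ]
        show (Ideal.Quotient.mk J) (1 ⊗ₜ πq y) = 0
        rw [show πq y = 0 from hy]
        simp
      rw [hx0, hy0, add_zero]
    · rintro _ ⟨i, rfl⟩
      simp [d, χ, hfp, hfq, RingHom.mem_ker]
  -- the prime of the tensor product lying over `M`
  let M₁ := M.map (Ideal.Quotient.mk (I))
  have : M₁.IsPrime := Ideal.map_isPrime_of_surjective Ideal.Quotient.mk_surjective
    (by rw [Ideal.mk_ker]; exact hM.1.2)
  let M₂ := M₁.comap χ.toRingHom
  have hM₂ : M₂ ∈ J.minimalPrimes := by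
    rw [← hker, RingHom.ker_eq_comap_bot, Ideal.comap_minimalPrimes_eq_of_surjective hχs]
    refine ⟨M₁, ⟨⟨inferInstance, bot_le⟩, fun Q hQ hQM => Ideal.map_le_iff_le_comap.2
      (hM.2 ⟨hQ.1.comap _, ?_⟩ ?_)⟩, rfl⟩
    · intro x hx
      rw [Ideal.mem_comap, Ideal.Quotient.eq_zero_iff_mem.2 hx]
      exact Q.zero_mem
    · refine (Ideal.comap_mono hQM).trans (le_of_eq ?_)
      rw [Ideal.comap_map_of_surjective _ Ideal.Quotient.mk_surjective, ← RingHom.ker_eq_comap_bot,
        Ideal.mk_ker, sup_eq_left]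
      exact hM.1.2
  have := hM₂.1.1
  have hdimM : ringKrullDim ((B ⊗[k] C) ⧸ M₂) = qdim M := by
    rw [coe_qdim k M]
    refine ringKrullDim_eq_of_ringEquiv (RingEquiv.trans ?_ (DoubleQuot.quotQuotEquivQuotOfLE hM.1.2))
    exact RingEquiv.ofBijective (Ideal.quotientMap M₁ χ.toRingHom le_rfl)
      ⟨Ideal.quotientMap_injective, Ideal.quotientMap_surjective hχs⟩
  obtain ⟨P, hP, hPM⟩ := Ideal.exists_minimalPrimes_le (bot_le : ⊥ ≤ M₂)
  have := hP.1.1
  have hT := ringKrullDim_tensor_quotient_minimal hP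
  obtain ⟨a, ha⟩ := DimTheory.exists_ringKrullDim_eq k B
  obtain ⟨b, hb⟩ := DimTheory.exists_ringKrullDim_eq k C
  refine ⟨a, b, ha, hb, ?_⟩
  have : Algebra.FiniteType k (B ⊗[k] C) :=
    Algebra.FiniteType.trans (S := B) (inferInstance) (inferInstance)
  have hqP : qdim P = a + b := qdim_eq (by rw [hT, ha, hb]; push_cast; rfl)
  have h := qdim_le_add_card k (p := P) (M := M₂) (Set.finite_range d)
    ⟨⟨hM₂.1.1, sup_le hPM hM₂.1.2⟩, fun Q hQ hQM => hM₂.2 ⟨hQ.1, le_sup_right.trans hQ.2⟩ hQM⟩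
  rw [hqP, qdim_eq hdimM] at h
  refine h.trans (Nat.add_le_add_left ?_ _)
  rw [← Set.image_univ]
  exact (Set.ncard_image_le Set.finite_univ).trans (by simp)

/-- each component of the intersection of two subvarieties of `m`-space has dimension at least
`dim + dim - m` -/
theorem qdim_add_le {m : ℕ} {p q M : Ideal (MvPolynomial (Fin m) k)} [p.IsPrime] [q.IsPrime]
    (hM : M ∈ (p ⊔ q).minimalPrimes) : qdim p + qdim q ≤ qdim M + m := by
  obtain ⟨a, b, ha, hb, hab⟩ := qdim_add_le_aux (Ideal.Quotient.mkₐ k p) (Ideal.Quotient.mkₐ k q)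
    Ideal.Quotient.mk_surjective Ideal.Quotient.mk_surjective (M := M)
    (by simpa only [AlgHom.toRingHom_eq_coe, Ideal.Quotient.mkₐ_ker, Ideal.mk_ker,
      show ((Ideal.Quotient.mkₐ k p : _ →ₐ[k] _) : _ →+* _) = Ideal.Quotient.mk p from rfl,
      show ((Ideal.Quotient.mkₐ k q : _ →ₐ[k] _) : _ →+* _) = Ideal.Quotient.mk q from rfl] using hM)
  rw [qdim_eq ha, qdim_eq hb]
  exact hab

end Intersection

end Groth.Agent.ConeDim
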