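import Groth.Agent.ConeDim.Proj

/-!
# Hypersurfaces in projective space
-/

set_option autoImplicit false

universe u

open AlgebraicGeometry MvPolynomial TopologicalSpace

namespace Groth.Agent.ConeDim

variable {k : Type u} [Field k] {n : ℕ}

local notation "A" => MvPolynomial (Fin (n + 1)) k
local notation "𝒜" => CohB1.polyGrading n k
local notation "PP" => ProjectiveSpectrum (CohB1.polyGrading n k)

/-- a polynomial generating a homogeneous ideal is homogeneous -/
theorem isHomogeneous_of_span_singleton {g : A} (h : (Ideal.span {g}).IsHomogeneous 𝒜) :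
    g.IsHomogeneous g.totalDegree := by
  by_cases hg : g = 0
  · subst hg; exact isHomogeneous_zero _ _ _
  have hz : ∀ j, homogeneousComponent j g ≠ 0 → j = g.totalDegree := by
    intro j hj
    have hmem : homogeneousComponent j g ∈ Ideal.span {g} := by
      rw [← MvPolynomial.decomposition.decompose'_apply]
      exact h j (Ideal.subset_span rfl)
    obtain ⟨c, hc⟩ := Ideal.mem_span_singleton'.1 hmem
    have hc0 : c ≠ 0 := fun e => hj (by rw [← hc, e, zero_mul])
    have hdeg := totalDegree_mul_of_isDomain hc0 hg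
    rw [hc, (homogeneousComponent_isHomogeneous j g).totalDegree hj] at hdeg
    by_contra hne
    exact hj (homogeneousComponent_eq_zero j g (by omega))
  have hsum := sum_homogeneousComponent g
  rw [Finset.sum_eq_single g.totalDegree
    (fun j _ hj => by by_contra h0; exact hj (hz j h0))
    (fun h0 => absurd (Finset.mem_range.2 (Nat.lt_succ_self _)) h0)] at hsum
  have hh := homogeneousComponent_isHomogeneous g.totalDegree g
  rwa [hsum] at hh

theorem qdim_span_of_prime {g : A} (hg : Prime g) :
    qdim (Ideal.span {g}) = n := by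
  have := (Ideal.span_singleton_prime hg.ne_zero).2 hg
  have h1 := qdim_le_add_card k (p := (⊥ : Ideal A)) (Set.finite_singleton g)
    (M := Ideal.span {g}) ⟨⟨this, by simp⟩, fun Q hQ _ => le_sup_right.trans hQ.2⟩
  have h2 := qdim_lt k (bot_lt_iff_ne_bot.2 (fun e => hg.ne_zero (Ideal.span_singleton_eq_bot.1 e)) :
    (⊥ : Ideal A) < Ideal.span {g})
  rw [qdim_bot, Set.ncard_singleton] at h1
  rw [qdim_bot] at h2
  omega

/-- a prime factor of a homogeneous polynomial spans a homogeneous ideal -/
theorem isHomogeneous_span_of_dvd {f g : A} {d : ℕ} (hf : f.IsHomogeneous d) (hf0 : f ≠ 0)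
    (hg : Prime g) (hgf : g ∣ f) : (Ideal.span {g}).IsHomogeneous 𝒜 := by
  have := (Ideal.span_singleton_prime hg.ne_zero).2 hg
  refine isHomogeneous_minimalPrime (I := Ideal.span {f})
    (Ideal.homogeneous_span _ _ fun x hx => ⟨d, by rw [Set.mem_singleton_iff.1 hx]; exact hf⟩)
    ⟨⟨this, Ideal.span_singleton_le_span_singleton.2 hgf⟩, fun Q hQ hQg => ?_⟩
  have := hQ.1
  by_contra hne
  have h1 := qdim_lt k (lt_of_le_not_ge hQg hne)
  have hQ0 : (⊥ : Ideal A) < Q := bot_lt_iff_ne_bot.2 fun e =>
    hf0 (by simpa [e] using hQ.2 (Ideal.subset_span rfl))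
  have h2 := qdim_lt k hQ0
  rw [qdim_span_of_prime hg] at h1
  rw [qdim_bot] at h2
  omega

end Groth.Agent.ConeDim
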