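import Groth.Agent.ConeDim.Alg
import Groth.Prelude.Def_CohB1

/-!
# Dimension theory of closed subsets of projective space over a field
-/

set_option autoImplicit false

universe u

open AlgebraicGeometry MvPolynomial TopologicalSpace

namespace Groth.Agent.ConeDim

variable {k : Type u} [Field k] {n : ℕ}

local notation "A" => MvPolynomial (Fin (n + 1)) k
local notation "𝒜" => CohB1.polyGrading n k
local notation "PP" => ProjectiveSpectrum (CohB1.polyGrading n k)

instance instQuasiSober : QuasiSober PP :=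
  (inferInstance : QuasiSober ↥(AlgebraicGeometry.Proj (CohB1.polyGrading n k)))

instance instT0Space : T0Space PP :=
  (inferInstance : T0Space ↥(AlgebraicGeometry.Proj (CohB1.polyGrading n k)))

/-- the homogeneous prime of a point -/
noncomputable abbrev pr (x : PP) : Ideal A := x.asHomogeneousIdeal.toIdeal

/-- the dimension of the affine cone over the closure of a point -/
noncomputable def qd (x : PP) : ℕ := qdim (pr x)

theorem specializes_iff {x y : PP} : x ⤳ y ↔ pr x ≤ pr y := by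
  rw [specializes_iff_mem_closure, ← ProjectiveSpectrum.le_iff_mem_closure]
  rfl

theorem pr_inj {x y : PP} (h : pr x = pr y) : x = y :=
  ((specializes_iff.2 h.le).antisymm (specializes_iff.2 h.ge)).eq

theorem mem_zeroLocus_iff {x : PP} {s : Set A} :
    x ∈ ProjectiveSpectrum.zeroLocus 𝒜 s ↔ Ideal.span s ≤ pr x := by
  rw [Ideal.span_le]; rfl

theorem irrelevant_eq : (HomogeneousIdeal.irrelevant 𝒜).toIdeal = idealOfVars (Fin (n + 1)) k := by
  refine le_antisymm (fun f hf => ?_) (Ideal.span_le.2 ?_)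
  · rw [← pow_one (idealOfVars _ _), mem_pow_idealOfVars_iff']
    intro d hd
    obtain rfl : d = 0 := (Finsupp.degree_eq_zero_iff d).1 (by omega)
    have h := (HomogeneousIdeal.mem_irrelevant_iff _ f).1 hf
    rw [GradedRing.proj_apply] at h
    have h' : homogeneousComponent 0 f = 0 := by
      rw [← MvPolynomial.decomposition.decompose'_apply]; exact h
    rw [homogeneousComponent_zero] at h'
    exact C_eq_zero.1 h'
  · rintro _ ⟨i, rfl⟩
    exact HomogeneousIdeal.mem_irrelevant_of_mem _ one_pos (isHomogeneous_X _ i)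

theorem qdim_bot : qdim (⊥ : Ideal A) = n + 1 :=
  qdim_eq (by
    rw [ringKrullDim_eq_of_ringEquiv (RingEquiv.quotientBot A),
      DimTheory.ringKrullDim_mvPolynomial_fin])

theorem isMaximal_idealOfVars : (idealOfVars (Fin (n + 1)) k).IsMaximal := by
  rw [show idealOfVars (Fin (n + 1)) k = RingHom.ker (constantCoeff (σ := Fin (n + 1)) (R := k)) from ?_]
  · exact RingHom.ker_isMaximal_of_surjective _ fun c => ⟨C c, constantCoeff_C _ c⟩
  ext f
  rw [← pow_one (idealOfVars _ _), mem_pow_idealOfVars_iff', RingHom.mem_ker, constantCoeff_eq]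
  refine ⟨fun h => h 0 (by simp), fun h d hd => ?_⟩
  obtain rfl : d = 0 := (Finsupp.degree_eq_zero_iff d).1 (by omega)
  exact h

theorem qdim_maximal (M : Ideal A) [M.IsMaximal] : qdim M = 0 := by
  let _ := Ideal.Quotient.field M
  exact qdim_eq (by rw [ringKrullDim_eq_zero_of_field]; rfl)

theorem isHomogeneous_minimalPrime {I M : Ideal A} (hI : I.IsHomogeneous 𝒜)
    (hM : M ∈ I.minimalPrimes) : M.IsHomogeneous 𝒜 := by
  have hle : I ≤ (M.homogeneousCore 𝒜).toIdeal := by
    rw [← hI.toIdeal_homogeneousCore_eq_self]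
    exact Ideal.homogeneousCore_mono 𝒜 hM.1.2
  have h := hM.2 ⟨hM.1.1.homogeneousCore, hle⟩ (Ideal.toIdeal_homogeneousCore_le 𝒜 M)
  exact (Ideal.IsHomogeneous.iff_eq 𝒜 M).2 (le_antisymm (Ideal.toIdeal_homogeneousCore_le 𝒜 M) h)

theorem le_irrelevant {P : Ideal A} (hP : P.IsHomogeneous 𝒜) (hne : P ≠ ⊤) :
    P ≤ (HomogeneousIdeal.irrelevant 𝒜).toIdeal := by
  rw [irrelevant_eq]
  intro f hf
  have h0 : C (coeff 0 f) ∈ P := by
    rw [← homogeneousComponent_zero, ← MvPolynomial.decomposition.decompose'_apply]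
    exact hP 0 hf
  rw [← pow_one (idealOfVars _ _), mem_pow_idealOfVars_iff']
  intro d hd
  obtain rfl : d = 0 := (Finsupp.degree_eq_zero_iff d).1 (by omega)
  by_contra hc
  exact hne (Ideal.eq_top_of_isUnit_mem _ h0 ((Ne.isUnit hc).map C))

theorem qdim_pos {P : Ideal A} [P.IsPrime] (hP : P.IsHomogeneous 𝒜)
    (hrel : ¬ (HomogeneousIdeal.irrelevant 𝒜).toIdeal ≤ P) : 1 ≤ qdim P := by
  have := isMaximal_idealOfVars (k := k) (n := n)
  have h := le_irrelevant hP Ideal.IsPrime.ne_top'
  rw [irrelevant_eq] at h hrel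
  have := qdim_lt k (h.lt_of_ne fun e => hrel e.ge)
  omega

theorem qd_pos (x : PP) : 1 ≤ qd x :=
  qdim_pos x.asHomogeneousIdeal.isHomogeneous x.not_irrelevant_le

theorem qd_le (x : PP) : qd x ≤ n + 1 := qdim_bot (k := k) (n := n) ▸ qdim_anti k bot_le

/-- a homogeneous prime of positive dimension is a point of projective space -/
noncomputable def pt (P : Ideal A) [hp : P.IsPrime] (hP : P.IsHomogeneous 𝒜) (h : 1 ≤ qdim P) : PP where
  asHomogeneousIdeal := ⟨P, hP⟩
  isPrime := hp
  not_irrelevant_le := fun hle => by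
    have := isMaximal_idealOfVars (k := k) (n := n)
    have h' : idealOfVars (Fin (n + 1)) k ≤ P := irrelevant_eq (k := k) (n := n) ▸ hle
    rw [← this.eq_of_le Ideal.IsPrime.ne_top' h', qdim_maximal] at h
    omega

theorem pr_pt (P : Ideal A) [P.IsPrime] (hP : P.IsHomogeneous 𝒜) (h : 1 ≤ qdim P) :
    pr (pt P hP h) = P := rfl

/-- the equations cut down the cone by at most their number -/
theorem exists_specializes_zeroLocus (x : PP) {s : Set A} (hs : s.Finite)
    (hhom : ∀ f ∈ s, ∃ d, 0 < d ∧ f.IsHomogeneous d) (hlt : s.ncard < qd x) :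
    ∃ y, x ⤳ y ∧ y ∈ ProjectiveSpectrum.zeroLocus 𝒜 s ∧ qd x ≤ qd y + s.ncard := by
  have hI : (pr x ⊔ Ideal.span s).IsHomogeneous 𝒜 :=
    x.asHomogeneousIdeal.isHomogeneous.sup (Ideal.homogeneous_span _ _ fun f hf =>
      let ⟨d, _, hd⟩ := hhom f hf; ⟨d, hd⟩)
  have hle : pr x ⊔ Ideal.span s ≤ (HomogeneousIdeal.irrelevant 𝒜).toIdeal :=
    sup_le (le_irrelevant x.asHomogeneousIdeal.isHomogeneous x.isPrime.ne_top)
      (Ideal.span_le.2 fun f hf =>
        let ⟨_, hd0, hd⟩ := hhom f hf; HomogeneousIdeal.mem_irrelevant_of_mem _ hd0 hd)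
  have := isMaximal_idealOfVars (k := k) (n := n)
  rw [irrelevant_eq] at hle
  obtain ⟨M, hM, -⟩ := Ideal.exists_minimalPrimes_le hle
  have := hM.1.1
  have h := qdim_le_add_card k hs hM
  have h1 : 1 ≤ qdim M := by unfold qd at hlt; omega
  exact ⟨pt M (isHomogeneous_minimalPrime hI hM) h1, specializes_iff.2 (le_sup_left.trans hM.1.2),
    mem_zeroLocus_iff.2 (le_sup_right.trans hM.1.2), h⟩

/-- a minimal point of `closure x ∩ V(s)` -/
theorem qd_le_of_minimal (x y : PP) {s : Set A} (hs : s.Finite)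
    (hhom : ∀ f ∈ s, ∃ d, f.IsHomogeneous d) (hxy : x ⤳ y)
    (hy : y ∈ ProjectiveSpectrum.zeroLocus 𝒜 s)
    (hmin : ∀ z, x ⤳ z → z ∈ ProjectiveSpectrum.zeroLocus 𝒜 s → z ⤳ y → z = y) :
    qd x ≤ qd y + s.ncard := by
  have hI : (pr x ⊔ Ideal.span s).IsHomogeneous 𝒜 :=
    x.asHomogeneousIdeal.isHomogeneous.sup (Ideal.homogeneous_span _ _ fun f hf =>
      let ⟨d, hd⟩ := hhom f hf; ⟨d, hd⟩)
  obtain ⟨M, hM, hMy⟩ := Ideal.exists_minimalPrimes_le
    (sup_le (specializes_iff.1 hxy) (mem_zeroLocus_iff.1 hy))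
  have := hM.1.1
  have h1 : 1 ≤ qdim M := (qd_pos y).trans (qdim_anti k hMy)
  have hz := hmin (pt M (isHomogeneous_minimalPrime hI hM) h1)
    (specializes_iff.2 (le_sup_left.trans hM.1.2)) (mem_zeroLocus_iff.2 (le_sup_right.trans hM.1.2))
    (specializes_iff.2 hMy)
  subst hz
  exact qdim_le_add_card k hs hM

theorem exists_qd_add_one_eq (x : PP) (h : 2 ≤ qd x) : ∃ y, x ⤳ y ∧ qd y + 1 = qd x := by
  obtain ⟨i, hi⟩ : ∃ i, (X i : A) ∉ pr x := by
    by_contra hc
    push Not at hc
    exact x.not_irrelevant_le (show (HomogeneousIdeal.irrelevant 𝒜).toIdeal ≤ pr x from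
      irrelevant_eq (k := k) (n := n) ▸ Ideal.span_le.2 (by rintro _ ⟨i, rfl⟩; exact hc i))
  obtain ⟨y, hxy, hy, hle⟩ := exists_specializes_zeroLocus x (Set.finite_singleton (X i : A))
    (fun f hf => ⟨1, one_pos, by rw [Set.mem_singleton_iff.1 hf]; exact isHomogeneous_X _ i⟩)
    (by rw [Set.ncard_singleton]; omega)
  have hlt : pr x < pr y := (specializes_iff.1 hxy).lt_of_ne fun e =>
    hi (e ▸ mem_zeroLocus_iff.1 hy (Ideal.subset_span rfl))
  have := qdim_lt k hlt
  rw [Set.ncard_singleton] at hle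
  unfold qd at *
  exact ⟨y, hxy, by omega⟩

/-- two subvarieties meet in at least the expected dimension -/
theorem exists_inter (x y : PP) (h : n + 1 < qd x + qd y) :
    ∃ z, x ⤳ z ∧ y ⤳ z ∧ qd x + qd y ≤ qd z + (n + 1) := by
  have hI := x.asHomogeneousIdeal.isHomogeneous.sup y.asHomogeneousIdeal.isHomogeneous
  have := isMaximal_idealOfVars (k := k) (n := n)
  have hle : pr x ⊔ pr y ≤ idealOfVars (Fin (n + 1)) k := by
    rw [← irrelevant_eq]
    exact sup_le (le_irrelevant x.asHomogeneousIdeal.isHomogeneous x.isPrime.ne_top)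
      (le_irrelevant y.asHomogeneousIdeal.isHomogeneous y.isPrime.ne_top)
  obtain ⟨M, hM, -⟩ := Ideal.exists_minimalPrimes_le hle
  have := hM.1.1
  have h' := qdim_add_le hM
  have h1 : 1 ≤ qdim M := by unfold qd at h; omega
  exact ⟨pt M (isHomogeneous_minimalPrime hI hM) h1, specializes_iff.2 (le_sup_left.trans hM.1.2),
    specializes_iff.2 (le_sup_right.trans hM.1.2), h'⟩

/-! ### Krull dimension of closed subsets -/

theorem krullDim_eq_iSup_nat {α : Type u} [Preorder α] (f : α → ℕ) (hf : StrictMono f)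
    (hstep : ∀ x m, f x = m + 1 → ∃ y < x, f y = m) :
    Order.krullDim α = ⨆ x, (f x : WithBot ℕ∞) := by
  have key : ∀ m x, f x = m → Order.height x = m := by
    intro m
    induction m with
    | zero =>
      intro x hx
      have := Order.height_le_height_apply_of_strictMono f hf x
      rw [hx, Order.height_nat] at this
      exact nonpos_iff_eq_zero.1 this
    | succ m ih =>
      intro x hx
      refine le_antisymm ?_ ?_
      · have := Order.height_le_height_apply_of_strictMono f hf x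
        rwa [hx, Order.height_nat] at this
      · obtain ⟨y, hy, hym⟩ := hstep x m hx
        have := Order.height_add_one_le hy
        rw [ih y hym] at this
        exact_mod_cast this
  rw [Order.krullDim_eq_iSup_height]
  exact iSup_congr fun x => by rw [key _ x rfl]; rfl

theorem topologicalKrullDim_closed {S : Set PP} (hS : IsClosed S) :
    topologicalKrullDim ↥S = ⨆ x : S, ((qd (x : PP) - 1 : ℕ) : WithBot ℕ∞) := by
  have : QuasiSober S := hS.isClosedEmbedding_subtypeVal.quasiSober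
  let _ : Preorder S := (specializationOrder S).toPreorder
  rw [topologicalKrullDim, Order.krullDim_eq_of_orderIso (irreducibleSetEquivPoints (α := S))]
  refine krullDim_eq_iSup_nat (fun x : S => qd (x : PP) - 1) (fun a b hab => ?_) fun a m ha => ?_
  · have h1 : (b : PP) ⤳ (a : PP) := (show b ⤳ a from hab.le).map continuous_subtype_val
    have h2 : pr (b : PP) ≠ pr (a : PP) := fun e =>
      hab.ne (Subtype.ext (pr_inj e).symm)
    have := qdim_lt k ((specializes_iff.1 h1).lt_of_ne h2)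
    have := qd_pos (a : PP)
    show qd (a : PP) - 1 < qd (b : PP) - 1
    unfold qd at *
    omega
  · obtain ⟨y, hy, hyq⟩ := exists_qd_add_one_eq (a : PP) (by omega)
    have hyS : y ∈ S := hy.mem_closed hS a.2
    refine ⟨⟨y, hyS⟩, ?_, by show qd y - 1 = m; omega⟩
    have h1 : a ⤳ (⟨y, hyS⟩ : S) := (subtype_specializes_iff a ⟨y, hyS⟩).2 hy
    refine @lt_of_le_of_ne S (specializationOrder S) _ _ h1 fun e => ?_
    have e' : y = (a : PP) := Subtype.ext_iff.1 e
    rw [e'] at hyq
    exact Nat.succ_ne_self _ hyq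

theorem le_topologicalKrullDim {S : Set PP} (hS : IsClosed S) {x : PP} (hx : x ∈ S) :
    ((qd x - 1 : ℕ) : WithBot ℕ∞) ≤ topologicalKrullDim ↥S := by
  rw [topologicalKrullDim_closed hS]
  exact le_iSup (fun z : S => ((qd (z : PP) - 1 : ℕ) : WithBot ℕ∞)) ⟨x, hx⟩

theorem exists_qd_eq {S : Set PP} (hS : IsClosed S) (hne : S.Nonempty) :
    ∃ x ∈ S, topologicalKrullDim ↥S = ((qd x - 1 : ℕ) : WithBot ℕ∞) := by
  classical
  let P : ℕ → Prop := fun m => ∃ x ∈ S, qd x = m
  obtain ⟨x₀, hx₀⟩ := hne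
  obtain ⟨x, hx, hxm⟩ : P (Nat.findGreatest P (n + 1)) :=
    Nat.findGreatest_spec (qd_le x₀) ⟨x₀, hx₀, rfl⟩
  refine ⟨x, hx, le_antisymm ?_ (le_topologicalKrullDim hS hx)⟩
  rw [topologicalKrullDim_closed hS]
  refine iSup_le fun z => Nat.cast_le.2 ?_
  have h1 : qd (z : PP) ≤ Nat.findGreatest P (n + 1) := Nat.le_findGreatest (qd_le _) ⟨z, z.2, rfl⟩
  omega

theorem topologicalKrullDim_eq_of_isGenericPoint {S : Set PP} {x : PP} (hx : IsGenericPoint x S) :
    topologicalKrullDim ↥S = ((qd x - 1 : ℕ) : WithBot ℕ∞) := by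
  have hS := hx.isClosed
  refine le_antisymm ?_ (le_topologicalKrullDim hS hx.mem)
  rw [topologicalKrullDim_closed hS]
  refine iSup_le fun z => Nat.cast_le.2 ?_
  have : qd (z : PP) ≤ qd x := qdim_anti k (specializes_iff.1 (hx.specializes z.2))
  omega

theorem exists_minimal_of_mem_irreducibleComponents {S : Set PP} (hS : IsClosed S) {C : Set S}
    (hC : C ∈ irreducibleComponents S) :
    ∃ x ∈ S, (∀ y ∈ S, y ⤳ x → y = x) ∧
      topologicalKrullDim ↥C = ((qd x - 1 : ℕ) : WithBot ℕ∞) := by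
  have hC' : IsIrreducible (Subtype.val '' C : Set PP) :=
    hC.1.image _ continuous_subtype_val.continuousOn
  obtain ⟨x, hx⟩ : ∃ x, IsGenericPoint x (Subtype.val '' C : Set PP) :=
    QuasiSober.sober hC' (hS.isClosedEmbedding_subtypeVal.isClosedMap _
      (isClosed_of_mem_irreducibleComponents _ hC))
  obtain ⟨x', hx', hxx⟩ := hx.mem
  refine ⟨x, hxx ▸ x'.2, fun y hy hyx => ?_, ?_⟩
  · have hsub : C ⊆ closure ({⟨y, hy⟩} : Set S) := fun c hc => by
      rw [← specializes_iff_mem_closure, subtype_specializes_iff]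
      exact hyx.trans (hx.specializes ⟨c, hc, rfl⟩)
    have hy' : (⟨y, hy⟩ : S) ∈ C :=
      hC.2 isIrreducible_singleton.closure hsub (subset_closure (Set.mem_singleton _))
    exact (hyx.antisymm (hx.specializes ⟨_, hy', rfl⟩)).eq
  · rw [← topologicalKrullDim_eq_of_isGenericPoint hx]
    exact IsHomeomorph.topologicalKrullDim_eq _
      (Topology.IsEmbedding.subtypeVal.homeomorphImage C).isHomeomorph

theorem exists_isGenericPoint {S : Set PP} (hS : IsClosed S) (hS' : IsIrreducible S) :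
    ∃ x, IsGenericPoint x S := QuasiSober.sober hS' hS

end Groth.Agent.ConeDim
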